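import Mathlib

/-! homogeneous components of `a • p` -/

open DirectSum

namespace Groth.Agent.TorusGrH28

universe u v w x

section
variable {k : Type u} [Field k] {M : Type v} [AddCommGroup M] [DecidableEq M]
    {A : Type w} [CommRing A] [Algebra k A] (𝒜 : M → Submodule k A) [GradedAlgebra 𝒜]
    {P : Type x} [AddCommGroup P] [Module A P] [Module k P] [IsScalarTower k A P]
    (ℳ : M → Submodule k P) [Decomposition ℳ] [SetLike.GradedSMul 𝒜 ℳ]

theorem smul_comp {p : P} {w : M} (hp : p ∈ ℳ w) (a : A) (e : M) :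
    (decompose ℳ (a • p) e : P) = (decompose 𝒜 a (e - w) : A) • p := by
  induction a using DirectSum.Decomposition.inductionOn 𝒜 with
  | zero => simp
  | @homogeneous i a =>
    have h : (a : A) • p ∈ ℳ (i + w) := SetLike.GradedSMul.smul_mem a.2 hp
    by_cases he : e = i + w
    · subst he
      rw [decompose_of_mem_same ℳ h, add_sub_cancel_right, decompose_of_mem_same 𝒜 a.2]
    · rw [decompose_of_mem_ne ℳ h (Ne.symm he), decompose_of_mem_ne 𝒜 a.2 (fun hh => he (by rw [hh, sub_add_cancel])), zero_smul]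
  | add a b ha hb => simp [add_smul, ha, hb]

theorem span_comp {n : ℕ} (wt : Fin n → M) (f : Fin n → P) (hf : ∀ i, f i ∈ ℳ (wt i)) (c : Fin n → A) (e : M) :
    (decompose ℳ (∑ i, c i • f i) e : P) = ∑ i, (decompose 𝒜 (c i) (e - wt i) : A) • f i := by
  rw [decompose_sum, DFinsupp.finset_sum_apply, AddSubmonoidClass.coe_finsetSum]
  exact Finset.sum_congr rfl fun i _ => smul_comp 𝒜 ℳ (hf i) _ _
end

end Groth.Agent.TorusGrH28
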